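import Mathlib
import Groth.Agent.S5658
import Groth.Agent.GLUnitsB.Basic

/-!
# Natural characters of products of general linear groups
-/

universe u

open scoped LaurentPolynomial

namespace Groth.Agent.GLChar

open Groth.Agent.S5658 (elem)

section

variable {B : Type u} [CommRing B] {n : ℕ}

theorem map_mem_elem {C : Type u} [CommRing C] (φ : B →+* C) {M : Matrix (Fin n) (Fin n) B} (h : M ∈ elem n B) :
    M.map φ ∈ elem n C := by
  induction h using Submonoid.closure_induction with
  | mem x hx =>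
    obtain ⟨t, rfl⟩ := hx
    convert Groth.Agent.S5658.transvection_mem_elem (R := C) t.hij (φ t.c) using 1
    ext r c
    simp [Matrix.TransvectionStruct.toMatrix, Matrix.transvection, Matrix.one_apply, Matrix.single_apply, apply_ite φ]
  | one => rw [Matrix.map_one _ (map_zero _) (map_one _)]; exact one_mem _
  | mul x y _ _ hx hy => rw [Matrix.map_mul]; exact mul_mem hx hy

/-- Every ring embeds into one with a unit `u` such that `u - 1` is a unit. -/
theorem exists_units_embedding (R : Type u) [CommRing R] (B : Type u) [CommRing B] [Algebra R B] :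
    ∃ (C : Type u) (_ : CommRing C) (_ : Algebra R C) (φ : B →ₐ[R] C),
      Function.Injective φ ∧ ∃ u : C, IsUnit u ∧ IsUnit (u - 1) := by
  let f : Polynomial B := Polynomial.X * (Polynomial.X - Polynomial.C 1)
  have hf : f.Monic := Polynomial.monic_X.mul (Polynomial.monic_X_sub_C 1)
  refine ⟨Localization.Away f, inferInstance, inferInstance,
    (IsScalarTower.toAlgHom R (Polynomial B) (Localization.Away f)).comp (IsScalarTower.toAlgHom R B (Polynomial B)),
    ?_, algebraMap (Polynomial B) _ Polynomial.X, ?_, ?_⟩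
  · exact (IsLocalization.injective (Localization.Away f) (Submonoid.powers_le.mpr hf.mem_nonZeroDivisors)).comp
      Polynomial.C_injective
  · have := IsLocalization.Away.algebraMap_isUnit (S := Localization.Away f) f
    rw [map_mul] at this
    exact isUnit_of_mul_isUnit_left this
  · have := IsLocalization.Away.algebraMap_isUnit (S := Localization.Away f) f
    rw [map_mul, map_sub, map_one, map_one] at this
    exact isUnit_of_mul_isUnit_right this

end

theorem coeff_eval₂ {R : Type u} [CommRing R] (Q : R[T;T⁻¹]) (x : (R[T;T⁻¹][T;T⁻¹])ˣ)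
    (hx : ∀ k : ℤ, ((x ^ k : (R[T;T⁻¹][T;T⁻¹])ˣ) : R[T;T⁻¹][T;T⁻¹]) =
      AddMonoidAlgebra.single k (LaurentPolynomial.T k : R[T;T⁻¹])) (j : ℤ) :
    (LaurentPolynomial.eval₂ ((LaurentPolynomial.C).comp (LaurentPolynomial.C : R →+* R[T;T⁻¹])) x Q).coeff j =
      AddMonoidAlgebra.single j (Q.coeff j) := by
  induction Q using LaurentPolynomial.induction_on' with
  | add p q hp hq => simp [map_add, hp, hq, AddMonoidAlgebra.single_add]
  | C_mul_T k a =>
    rw [LaurentPolynomial.eval₂_C_mul_T, hx, RingHom.comp_apply, ← LaurentPolynomial.single_eq_C_mul_T]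
    have h1 : (LaurentPolynomial.C (LaurentPolynomial.C a) : R[T;T⁻¹][T;T⁻¹]) *
        AddMonoidAlgebra.single k (LaurentPolynomial.T k : R[T;T⁻¹]) =
        AddMonoidAlgebra.single k (AddMonoidAlgebra.single k a) := by
      change AddMonoidAlgebra.single 0 _ * _ = _
      rw [AddMonoidAlgebra.single_mul_single, zero_add, ← LaurentPolynomial.single_eq_C_mul_T]
    rw [h1, AddMonoidAlgebra.coeff_single, AddMonoidAlgebra.coeff_single]
    rcases eq_or_ne j k with rfl | h
    · simp
    · simp [Finsupp.single_apply, h.symm]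

/-- A natural character of the multiplicative group over a connected base is a power. -/
theorem gm_char (R : Type u) [CommRing R] [ConnectedSpace (PrimeSpectrum R)]
    (ψ : ∀ (B : Type u) [CommRing B] [Algebra R B], Bˣ →* Bˣ)
    (hψ : ∀ (B C : Type u) [CommRing B] [Algebra R B] [CommRing C] [Algebra R C] (φ : B →ₐ[R] C) (u : Bˣ),
      ψ C (Units.map (φ.toRingHom : B →* C) u) = Units.map (φ.toRingHom : B →* C) (ψ B u)) :
    ∃ m : ℤ, ∀ (B : Type u) [CommRing B] [Algebra R B] (u : Bˣ), ψ B u = u ^ m := by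
  have : Nontrivial R := PrimeSpectrum.nonempty_iff_nontrivial.mp inferInstance
  have hconn : ∀ e : R, IsIdempotentElem e → e = 0 ∨ e = 1 := fun e he => by
    have hcl : IsClopen (PrimeSpectrum.basicOpen e : Set (PrimeSpectrum R)) :=
      PrimeSpectrum.isClopen_iff.mpr ⟨e, he, rfl⟩
    rcases isClopen_iff.mp hcl with h | h
    · refine Or.inl (he.eq_zero_of_isNilpotent ?_)
      rw [← PrimeSpectrum.basicOpen_eq_bot_iff]
      exact TopologicalSpace.Opens.ext h
    · refine Or.inr ((IsUnit.mul_eq_left ?_).mp he)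
      by_contra hu
      obtain ⟨M, hM, heM⟩ := exists_max_ideal_of_mem_nonunits hu
      have hmem : (⟨M, hM.isPrime⟩ : PrimeSpectrum R) ∈ (PrimeSpectrum.basicOpen e : Set (PrimeSpectrum R)) :=
        h ▸ Set.mem_univ _
      exact hmem heM
  let t : (R[T;T⁻¹])ˣ := (LaurentPolynomial.isUnit_T (R := R) 1).unit
  set P : R[T;T⁻¹] := ((ψ R[T;T⁻¹] t : (R[T;T⁻¹])ˣ) : R[T;T⁻¹]) with hP
  have hev : ∀ (B : Type u) [CommRing B] [Algebra R B] (v : Bˣ),
      ((ψ B v : Bˣ) : B) = LaurentPolynomial.eval₂ (algebraMap R B) v P := by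
    intro B _ _ v
    let φ : R[T;T⁻¹] →ₐ[R] B :=
      { toRingHom := LaurentPolynomial.eval₂ (algebraMap R B) v
        commutes' := fun r => by
          change LaurentPolynomial.eval₂ (algebraMap R B) v (LaurentPolynomial.C r) = _
          exact LaurentPolynomial.eval₂_C _ _ r }
    have hv : Units.map (φ.toRingHom : R[T;T⁻¹] →* B) t = v := Units.ext (by
      change LaurentPolynomial.eval₂ (algebraMap R B) v (LaurentPolynomial.T 1) = _
      rw [LaurentPolynomial.eval₂_T, zpow_one])
    have h := hψ R[T;T⁻¹] B φ t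
    rw [hv] at h
    rw [h]
    rfl
  -- multiplicativity in the double Laurent ring
  let S : (R[T;T⁻¹][T;T⁻¹])ˣ := Units.map (LaurentPolynomial.C : R[T;T⁻¹] →+* R[T;T⁻¹][T;T⁻¹]).toMonoidHom t
  let T' : (R[T;T⁻¹][T;T⁻¹])ˣ := (LaurentPolynomial.isUnit_T (R := R[T;T⁻¹]) 1).unit
  let ι : R →+* R[T;T⁻¹][T;T⁻¹] := (LaurentPolynomial.C).comp (LaurentPolynomial.C : R →+* R[T;T⁻¹])
  have hι : algebraMap R R[T;T⁻¹][T;T⁻¹] = ι := RingHom.ext fun r => rfl
  have hmul : LaurentPolynomial.eval₂ ι (S * T') P =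
      LaurentPolynomial.eval₂ ι S P * LaurentPolynomial.eval₂ ι T' P := by
    rw [← hι, ← hev, ← hev, ← hev, map_mul, Units.val_mul]
  have hTk : ∀ k : ℤ, ((t ^ k : (R[T;T⁻¹])ˣ) : R[T;T⁻¹]) = LaurentPolynomial.T k :=
    fun k => Groth.Agent.GLUnitsB.zpow_eq_T (IsUnit.unit_spec _) k
  have hS : LaurentPolynomial.eval₂ ι S P = LaurentPolynomial.C P := by
    have : LaurentPolynomial.eval₂ ι S = (LaurentPolynomial.C : R[T;T⁻¹] →+* R[T;T⁻¹][T;T⁻¹]) := by
      refine RingHom.ext fun Q => ?_
      induction Q using LaurentPolynomial.induction_on' with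
      | add p q hp hq => rw [map_add, map_add, hp, hq]
      | C_mul_T k a =>
        rw [LaurentPolynomial.eval₂_C_mul_T, map_mul, ← hTk k, RingHom.comp_apply]
        rw [← map_zpow]
        rfl
    rw [this]
  have hT : ∀ j, (LaurentPolynomial.eval₂ ι T' P).coeff j = LaurentPolynomial.C (P.coeff j) := by
    intro j
    induction P using LaurentPolynomial.induction_on' with
    | add p q hp hq => simp [map_add, hp, hq]
    | C_mul_T k a =>
      rw [LaurentPolynomial.eval₂_C_mul_T, Groth.Agent.GLUnitsB.zpow_eq_T (IsUnit.unit_spec _) k,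
        RingHom.comp_apply, ← LaurentPolynomial.single_eq_C_mul_T, ← LaurentPolynomial.single_eq_C_mul_T,
        AddMonoidAlgebra.coeff_single, AddMonoidAlgebra.coeff_single]
      rcases eq_or_ne j k with rfl | h
      · simp
      · simp [Finsupp.single_apply, h.symm]
  have hST : ∀ k : ℤ, (((S * T') ^ k : (R[T;T⁻¹][T;T⁻¹])ˣ) : R[T;T⁻¹][T;T⁻¹]) =
      AddMonoidAlgebra.single k (LaurentPolynomial.T k : R[T;T⁻¹]) := by
    intro k
    rw [show (S * T') ^ k = S ^ k * T' ^ k from mul_zpow S T' k, Units.val_mul, Groth.Agent.GLUnitsB.zpow_eq_T (IsUnit.unit_spec _) k,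
      LaurentPolynomial.single_eq_C_mul_T, ← hTk k, ← map_zpow]
    rfl
  have hcoef : ∀ i j, P.coeff i * P.coeff j = if i = j then P.coeff j else 0 := by
    intro i j
    have h1 := congrArg (fun Z : R[T;T⁻¹][T;T⁻¹] => (Z.coeff j).coeff i) hmul
    have h0 : (LaurentPolynomial.eval₂ ι (S * T') P).coeff j = AddMonoidAlgebra.single j (P.coeff j) :=
      coeff_eval₂ P (S * T') hST j
    simp only [h0, hS] at h1
    have h2 : (LaurentPolynomial.C P * LaurentPolynomial.eval₂ ι T' P).coeff j =
        P * LaurentPolynomial.C (P.coeff j) := by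
      change (AddMonoidAlgebra.single (0 : ℤ) P * LaurentPolynomial.eval₂ ι T' P).coeff j = _
      rw [AddMonoidAlgebra.coeff_single_mul_apply, neg_zero, zero_add, hT]
    have h3 : (P * LaurentPolynomial.C (P.coeff j)).coeff i = P.coeff i * P.coeff j := by
      change (P * AddMonoidAlgebra.single (0 : ℤ) (P.coeff j)).coeff i = _
      rw [AddMonoidAlgebra.coeff_mul_single_apply, neg_zero, add_zero]
    rw [h2, h3, AddMonoidAlgebra.coeff_single, Finsupp.single_apply] at h1
    rw [← h1]
    exact if_congr eq_comm rfl rfl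
  have hone : LaurentPolynomial.eval₂ (RingHom.id R) 1 P = 1 := by
    have h := hev R 1
    rw [map_one, Units.val_one] at h
    exact h.symm
  obtain ⟨m, hm⟩ : ∃ m, P.coeff m ≠ 0 := by
    by_contra hno
    push Not at hno
    have : P = 0 := AddMonoidAlgebra.ext (by ext k; simpa using hno k)
    rw [this, map_zero] at hone
    exact zero_ne_one hone
  have hm1 : P.coeff m = 1 :=
    (hconn _ (show P.coeff m * P.coeff m = _ by rw [hcoef, if_pos rfl])).resolve_left hm
  have hPm : P = LaurentPolynomial.T m := by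
    refine AddMonoidAlgebra.ext ?_
    ext k
    change P.coeff k = (Finsupp.single m (1 : R)) k
    rcases eq_or_ne k m with rfl | h
    · rw [hm1, Finsupp.single_eq_same]
    · rw [Finsupp.single_apply, if_neg h.symm, ← mul_one (P.coeff k), ← hm1, hcoef, if_neg h]
  refine ⟨m, fun B _ _ v => Units.ext ?_⟩
  rw [hev, hPm, LaurentPolynomial.eval₂_T]

/-- The matrix `diag(u, 1, …, 1)`. -/
noncomputable def diagUnit {B : Type u} [CommRing B] {n : ℕ} (hn : 0 < n) : Bˣ →* GL (Fin n) B :=
  (Units.map (Matrix.diagonalRingHom (Fin n) B).toMonoidHom).comp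
    (MulEquiv.piUnits.symm.toMonoidHom.comp (MonoidHom.mulSingle (fun _ : Fin n => Bˣ) ⟨0, hn⟩))

theorem coe_diagUnit {B : Type u} [CommRing B] {n : ℕ} (hn : 0 < n) (u : Bˣ) :
    (diagUnit hn u : Matrix (Fin n) (Fin n) B) =
      Matrix.diagonal (fun i => ((Pi.mulSingle (M := fun _ : Fin n => Bˣ) ⟨0, hn⟩ u i : Bˣ) : B)) := rfl

theorem det_diagUnit {B : Type u} [CommRing B] {n : ℕ} (hn : 0 < n) (u : Bˣ) :
    Matrix.GeneralLinearGroup.det (diagUnit hn u) = u := by
  ext
  rw [Matrix.GeneralLinearGroup.val_det_apply, coe_diagUnit, Matrix.det_diagonal, ← Units.coe_prod,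
    Finset.prod_pi_mulSingle']
  simp

theorem map_diagUnit {B C : Type u} [CommRing B] [CommRing C] (φ : B →+* C) {n : ℕ} (hn : 0 < n) (u : Bˣ) :
    Matrix.GeneralLinearGroup.map φ (diagUnit hn u) = diagUnit hn (Units.map (φ : B →* C) u) := by
  refine Units.ext (Matrix.ext fun i j => ?_)
  change φ ((diagUnit hn u : Matrix (Fin n) (Fin n) B) i j) = _
  rw [coe_diagUnit, coe_diagUnit]
  rcases eq_or_ne i j with rfl | h
  · rw [Matrix.diagonal_apply_eq, Matrix.diagonal_apply_eq]
    rcases eq_or_ne i ⟨0, hn⟩ with rfl | h'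
    · simp
    · simp [Pi.mulSingle_eq_of_ne h']
  · rw [Matrix.diagonal_apply_ne _ h, Matrix.diagonal_apply_ne _ h, map_zero]

/-- A natural character of `GL_n` over a connected base is a power of the determinant. -/
theorem gl_char (R : Type u) [CommRing R] [ConnectedSpace (PrimeSpectrum R)] {n : ℕ} (hn : 0 < n)
    (β : ∀ (B : Type u) [CommRing B] [Algebra R B], GL (Fin n) B →* Bˣ)
    (hβ : ∀ (B C : Type u) [CommRing B] [Algebra R B] [CommRing C] [Algebra R C] (φ : B →ₐ[R] C) (s : GL (Fin n) B),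
      β C (Matrix.GeneralLinearGroup.map φ.toRingHom s) = Units.map (φ.toRingHom : B →* C) (β B s)) :
    ∃ m : ℤ, ∀ (B : Type u) [CommRing B] [Algebra R B] (s : GL (Fin n) B),
      β B s = Matrix.GeneralLinearGroup.det s ^ m := by
  obtain ⟨m, hm⟩ := gm_char R (fun B _ _ => (β B).comp (diagUnit hn)) (fun B C _ _ _ _ φ v => by
    simp only [MonoidHom.comp_apply]
    rw [← hβ, map_diagUnit])
  have helem : ∀ (B : Type u) [CommRing B] [Algebra R B] (s : GL (Fin n) B),
      (s : Matrix (Fin n) (Fin n) B) ∈ elem n B → β B s = 1 := by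
    intro B _ _ s hs
    obtain ⟨C, _, _, φ, hφ, u, hu, hu1⟩ := exists_units_embedding R B
    have hmem := Groth.Agent.S5658.mem_commutator_of_mem_elem hu hu1 (map_mem_elem φ.toRingHom hs)
      (Matrix.GeneralLinearGroup.map φ.toRingHom s) rfl
    have h := Abelianization.commutator_subset_ker (β C) hmem
    rw [MonoidHom.mem_ker, hβ] at h
    refine Units.ext (hφ ?_)
    have h' := congrArg (fun v : Cˣ => (v : C)) h
    simpa using h'
  refine ⟨m, fun B _ _ s => ?_⟩
  set v := Matrix.GeneralLinearGroup.det s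
  have hdet : Matrix.GeneralLinearGroup.det (s * (diagUnit hn v)⁻¹) = 1 := by
    rw [map_mul, map_inv, det_diagUnit, mul_inv_cancel]
  have hkill : β B (s * (diagUnit hn v)⁻¹) = 1 := by
    refine Units.ext ?_
    rw [Units.val_one]
    refine Module.eq_of_localization_maximal (fun P _ => Localization.AtPrime P)
      (fun P _ => Algebra.linearMap B (Localization.AtPrime P)) _ _ fun P hP => ?_
    let φ : B →ₐ[R] Localization.AtPrime P := IsScalarTower.toAlgHom R B _
    have h1 : β (Localization.AtPrime P) (Matrix.GeneralLinearGroup.map φ.toRingHom (s * (diagUnit hn v)⁻¹)) = 1 := by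
      refine helem _ _ (Groth.Agent.S5658.mem_elem_of_det_eq_one _ ?_)
      have := congrArg (fun w : Bˣ => φ.toRingHom (w : B)) hdet
      simp only [Matrix.GeneralLinearGroup.val_det_apply, Units.val_one, map_one, RingHom.map_det] at this
      exact this
    rw [hβ] at h1
    simpa [φ] using congrArg Units.val h1
  rw [map_mul, map_inv, mul_inv_eq_one] at hkill
  rw [hkill]
  exact hm B v

theorem existsUnique_prod (R : Type u) [CommRing R] [ConnectedSpace (PrimeSpectrum R)]
    (r : ℕ) (n : Fin r → ℕ) (hn : ∀ i, 0 < n i)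
    (α : ∀ (B : Type u) [CommRing B] [Algebra R B], (∀ i, Matrix.GeneralLinearGroup (Fin (n i)) B) →* Bˣ)
    (hα : ∀ (B C : Type u) [CommRing B] [Algebra R B] [CommRing C] [Algebra R C] (φ : B →ₐ[R] C)
      (s : ∀ i, Matrix.GeneralLinearGroup (Fin (n i)) B),
      α C (fun i => Matrix.GeneralLinearGroup.map φ.toRingHom (s i)) = Units.map (φ.toRingHom : B →* C) (α B s)) :
    ∃! m : Fin r → ℤ, ∀ (B : Type u) [CommRing B] [Algebra R B] (s : ∀ i, Matrix.GeneralLinearGroup (Fin (n i)) B),
      α B s = ∏ i, Matrix.GeneralLinearGroup.det (s i) ^ (m i) := by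
  classical
  have hβ : ∀ i, ∃ m : ℤ, ∀ (B : Type u) [CommRing B] [Algebra R B] (g : GL (Fin (n i)) B),
      α B (Pi.mulSingle i g) = Matrix.GeneralLinearGroup.det g ^ m := fun i =>
    gl_char R (hn i) (fun B _ _ => (α B).comp (MonoidHom.mulSingle (fun j => GL (Fin (n j)) B) i))
      fun B C _ _ _ _ φ g => by
        simp only [MonoidHom.comp_apply, MonoidHom.mulSingle_apply]
        rw [← hα]
        congr 1
        funext j
        exact (Pi.apply_mulSingle (fun j => ⇑(Matrix.GeneralLinearGroup.map (n := Fin (n j)) φ.toRingHom))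
          (fun j => map_one _) i g j).symm
  choose m hm using hβ
  have hmain : ∀ (B : Type u) [CommRing B] [Algebra R B] (s : ∀ i, Matrix.GeneralLinearGroup (Fin (n i)) B),
      α B s = ∏ i, Matrix.GeneralLinearGroup.det (s i) ^ (m i) := by
    intro B _ _ s
    let γ : (∀ i, GL (Fin (n i)) B) →* Bˣ :=
      ∏ i, (zpowGroupHom (m i)).comp (Matrix.GeneralLinearGroup.det.comp (Pi.evalMonoidHom _ i))
    have hγ : ∀ s, γ s = ∏ i, Matrix.GeneralLinearGroup.det (s i) ^ (m i) := fun s => by
      simp [γ, MonoidHom.finsetProd_apply]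
    have : α B = γ := MonoidHom.pi_ext fun i g => by
      rw [hm i B g, hγ, Finset.prod_eq_single i
        (fun j _ hj => by rw [Pi.mulSingle_eq_of_ne hj, map_one, one_zpow]) (by simp), Pi.mulSingle_eq_same]
    rw [this, hγ]
  refine ⟨m, hmain, fun m' hm' => funext fun i => ?_⟩
  have : Nontrivial R := PrimeSpectrum.nonempty_iff_nontrivial.mp inferInstance
  let t : (R[T;T⁻¹])ˣ := (LaurentPolynomial.isUnit_T (R := R) 1).unit
  have h := (hm' R[T;T⁻¹] (Pi.mulSingle i (diagUnit (hn i) t))).symm.trans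
    (hmain R[T;T⁻¹] (Pi.mulSingle i (diagUnit (hn i) t)))
  rw [Finset.prod_eq_single i (fun j _ hj => by rw [Pi.mulSingle_eq_of_ne hj, map_one, one_zpow]) (by simp),
    Finset.prod_eq_single i (fun j _ hj => by rw [Pi.mulSingle_eq_of_ne hj, map_one, one_zpow]) (by simp),
    Pi.mulSingle_eq_same, det_diagUnit] at h
  have h' := congrArg Units.val h
  rw [Groth.Agent.GLUnitsB.zpow_eq_T (IsUnit.unit_spec _), Groth.Agent.GLUnitsB.zpow_eq_T (IsUnit.unit_spec _)] at h'
  rcases AddMonoidAlgebra.single_inj.mp h' with ⟨e, -⟩ | ⟨e, -⟩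
  · exact e
  · exact absurd e one_ne_zero

end Groth.Agent.GLChar
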